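import Mathlib
import Groth.Agent.H3.EtaleLiftUnique
import Groth.Agent.H3.PairIdem

/-!
# Essentially étale local algebras over a complete local ring come from a henselian subring (S16444)

Core algebraic statement.
-/

set_option autoImplicit false

namespace Groth.Agent.H78.EssEtComplete

open TensorProduct

universe u

section Core

variable {R A : Type u} [CommRing R] [CommRing A] [Algebra R A]
  (IR : Ideal R) (IA : Ideal A)

/-- every element of `A ⊗[R] S` is congruent to some `1 ⊗ s` modulo `IA` -/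
theorem exists_one_tmul_sub_mem (hb : ∀ a : A, ∃ r : R, a - algebraMap R A r ∈ IA)
    (S : Type u) [CommRing S] [Algebra R S] (t : A ⊗[R] S) :
    ∃ s : S, t - 1 ⊗ₜ[R] s ∈ IA.map (algebraMap A (A ⊗[R] S)) := by
  induction t using TensorProduct.induction_on with
  | zero => exact ⟨0, by simp⟩
  | tmul a s' =>
    obtain ⟨r, hr⟩ := hb a
    refine ⟨r • s', ?_⟩
    have : a ⊗ₜ[R] s' - 1 ⊗ₜ[R] (r • s') =
        algebraMap A (A ⊗[R] S) (a - algebraMap R A r) * (1 ⊗ₜ s') := by
      rw [Algebra.TensorProduct.algebraMap_apply, Algebra.TensorProduct.tmul_mul_tmul, mul_one,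
        one_mul, Algebra.algebraMap_self_apply, sub_tmul, ← smul_tmul, Algebra.smul_def, mul_one]
    rw [this]
    exact Ideal.mul_mem_right _ _ (Ideal.mem_map_of_mem _ hr)
  | add x y hx hy =>
    obtain ⟨s₁, h₁⟩ := hx
    obtain ⟨s₂, h₂⟩ := hy
    refine ⟨s₁ + s₂, ?_⟩
    have : x + y - 1 ⊗ₜ[R] (s₁ + s₂) = (x - 1 ⊗ₜ s₁) + (y - 1 ⊗ₜ s₂) := by
      rw [tmul_add]; ring
    rw [this]
    exact Ideal.add_mem _ h₁ h₂

theorem core (hIA : HenselianRing A IA) [IsNoetherianRing A]
    (ha : IR.map (algebraMap R A) ≤ IA)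
    (hb : ∀ a : A, ∃ r : R, a - algebraMap R A r ∈ IA)
    (S : Type u) [CommRing S] [Algebra R S] [Module.Finite R S] [Algebra.Etale R S]
    (E : Type u) [CommRing E] [Algebra A E] [Algebra R E] [IsScalarTower R A E]
    [Module.Finite A E] [Algebra.FormallyEtale A E]
    (π : S →ₐ[R] E ⧸ IA.map (algebraMap A E)) (hπ : Function.Surjective π)
    (hker : ∀ s, π s = 0 → s ∈ IR.map (algebraMap R S)) :
    Nonempty (E ≃ₐ[A] A ⊗[R] S) := by
  let σ₀ : A ⊗[R] S →ₐ[A] E ⧸ IA.map (algebraMap A E) :=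
    Algebra.TensorProduct.lift (Algebra.ofId A (E ⧸ IA.map (algebraMap A E))) π (fun _ _ => Commute.all _ _)
  have hσ₀ : ∀ s : S, σ₀ (1 ⊗ₜ s) = π s := by
    intro s
    simp [σ₀]
  haveI : Algebra.IsIntegral A E := inferInstance
  obtain ⟨σ, hσ, -⟩ := Groth.Agent.H3.EtaleLift.existsUnique_lift_of_etale_of_isIntegral hIA E σ₀
  -- `σ₀` kills `IA T`
  have hσ₀IA : ∀ t ∈ IA.map (algebraMap A (A ⊗[R] S)), σ₀ t = 0 := by
    intro t ht
    have h1 : Ideal.map σ₀.toRingHom (IA.map (algebraMap A (A ⊗[R] S))) = ⊥ := by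
      rw [Ideal.map_map, eq_bot_iff, Ideal.map_le_iff_le_comap]
      intro a haI
      rw [Ideal.mem_comap, Ideal.mem_bot]
      change σ₀ (algebraMap A _ a) = 0
      rw [σ₀.commutes]
      change Ideal.Quotient.mk (IA.map (algebraMap A E)) (algebraMap A E a) = 0
      rw [Ideal.Quotient.eq_zero_iff_mem]
      exact Ideal.mem_map_of_mem _ haI
    have h2 : σ₀.toRingHom t ∈ Ideal.map σ₀.toRingHom (IA.map (algebraMap A (A ⊗[R] S))) :=
      Ideal.mem_map_of_mem _ ht
    rw [h1] at h2
    exact h2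
  -- surjectivity
  have hsurj : Function.Surjective σ := by
    have hle : (⊤ : Submodule A E) ≤ LinearMap.range σ.toLinearMap ⊔ IA • ⊤ := by
      intro x _
      obtain ⟨s, hs⟩ := hπ (Ideal.Quotient.mk (IA.map (algebraMap A E)) x)
      have h1 : Ideal.Quotient.mk (IA.map (algebraMap A E)) (σ (1 ⊗ₜ s)) = Ideal.Quotient.mk (IA.map (algebraMap A E)) x := by
        rw [hσ, hσ₀, hs]
      have h2 : x - σ (1 ⊗ₜ s) ∈ IA.map (algebraMap A E) := by
        rw [← Ideal.Quotient.eq, h1]
      have h3 : x = σ (1 ⊗ₜ s) + (x - σ (1 ⊗ₜ s)) := by ring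
      rw [h3]
      refine Submodule.add_mem_sup ⟨1 ⊗ₜ s, rfl⟩ ?_
      rw [Ideal.smul_top_eq_map]
      exact h2
    have := Submodule.le_of_le_smul_of_le_jacobson_bot (Module.Finite.fg_top) hIA.jac hle
    intro x
    obtain ⟨t, ht⟩ := this (Submodule.mem_top (x := x))
    exact ⟨t, ht⟩
  -- injectivity
  have hinj : Function.Injective σ := by
    letI : Algebra (A ⊗[R] S) E := σ.toRingHom.toAlgebra
    haveI : IsScalarTower A (A ⊗[R] S) E := IsScalarTower.of_algebraMap_eq' (by
      ext a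
      exact (σ.commutes a).symm)
    haveI : Algebra.FormallyEtale (A ⊗[R] S) E := Algebra.FormallyEtale.of_restrictScalars (R := A)
    have hidem : IsIdempotentElem (RingHom.ker (algebraMap (A ⊗[R] S) E)) :=
      (Algebra.FormallyEtale.iff_of_surjective hsurj).mp inferInstance
    set K : Ideal (A ⊗[R] S) := RingHom.ker (algebraMap (A ⊗[R] S) E) with hK
    have hKle : K ≤ IA.map (algebraMap A (A ⊗[R] S)) := by
      intro t ht
      have ht0 : σ t = 0 := ht
      obtain ⟨s, hs⟩ := exists_one_tmul_sub_mem IA hb S t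
      have h1 : σ₀ t = 0 := by rw [← hσ, ht0, map_zero]
      have h2 : σ₀ (t - 1 ⊗ₜ s) = 0 := hσ₀IA _ hs
      have h3 : π s = 0 := by
        rw [map_sub, h1, zero_sub, neg_eq_zero, hσ₀] at h2
        exact h2
      have h4 := hker s h3
      have h5 : (1 : A) ⊗ₜ[R] s ∈ IA.map (algebraMap A (A ⊗[R] S)) := by
        have h6 : (1 : A) ⊗ₜ[R] s ∈ Ideal.map
            (Algebra.TensorProduct.includeRight : S →ₐ[R] A ⊗[R] S).toRingHom
              (IR.map (algebraMap R S)) := Ideal.mem_map_of_mem _ h4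
        rw [Ideal.map_map] at h6
        have h7 : ((Algebra.TensorProduct.includeRight : S →ₐ[R] A ⊗[R] S).toRingHom).comp
            (algebraMap R S) = (algebraMap A (A ⊗[R] S)).comp (algebraMap R A) := by
          ext r
          simp [Algebra.algebraMap_eq_smul_one]
        rw [h7, ← Ideal.map_map] at h6
        exact Ideal.map_mono ha h6
      have h8 : t = (t - 1 ⊗ₜ s) + 1 ⊗ₜ s := by ring
      rw [h8]
      exact Ideal.add_mem _ hs h5
    haveI : IsNoetherianRing (A ⊗[R] S) := IsNoetherianRing.of_finite A (A ⊗[R] S)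
    have hKfg : K.FG := (isNoetherianRing_iff_ideal_fg _).mp inferInstance K
    have hKK : K ≤ K • K := by
      rw [smul_eq_mul]
      exact hidem.eq.ge
    haveI : Algebra.IsIntegral A (A ⊗[R] S) := inferInstance
    have hjac : K ≤ Ideal.jacobson ⊥ :=
      hKle.trans (Groth.Agent.H3.map_le_jacobson_of_isIntegral hIA.jac (A ⊗[R] S))
    have hbot : K = ⊥ := Submodule.eq_bot_of_le_smul_of_le_jacobson_bot K K hKfg hKK hjac
    rw [injective_iff_map_eq_zero]
    intro t ht
    have : t ∈ K := ht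
    rw [hbot] at this
    exact this
  exact ⟨(AlgEquiv.ofBijective σ ⟨hinj, hsurj⟩).symm⟩

end Core

end Groth.Agent.H78.EssEtComplete
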