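import Mathlib
import Groth.Prelude.Def_EssEt
import Groth.Agent.H78.EssEtComplete.Core
import Groth.Agent.H78.HensQF.Forward
import Groth.Agent.H3.HenselBasic
import Groth.Agent.S0532

/-!
# S16444: essentially étale local algebras over a complete local ring
-/

set_option autoImplicit false

namespace Groth.Agent.H78.EssEtComplete

open TensorProduct IsLocalRing

universe u

/-- A ring is local as soon as a quotient by an ideal in the Jacobson radical is. -/
theorem isLocalRing_of_quotient {S : Type u} [CommRing S] (J : Ideal S)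
    (hJ : J ≤ Ideal.jacobson ⊥) [IsLocalRing (S ⧸ J)] : IsLocalRing S := by
  haveI : Nontrivial S := by
    by_contra h
    rw [not_nontrivial_iff_subsingleton] at h
    have : (1 : S ⧸ J) = 0 := by
      rw [← map_one (Ideal.Quotient.mk J), ← map_zero (Ideal.Quotient.mk J)]
      congr 1
      exact Subsingleton.elim _ _
    exact one_ne_zero this
  refine IsLocalRing.of_nonunits_add ?_
  intro a b ha hb
  rw [mem_nonunits_iff] at ha hb ⊢
  rw [← Groth.Agent.H3.isUnit_mk_iff hJ] at ha hb ⊢
  rw [map_add]
  exact (IsLocalRing.nonunits_add (mem_nonunits_iff.mpr ha) (mem_nonunits_iff.mpr hb))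

theorem main
    (R A E : Type u) [CommRing R] [HenselianLocalRing R] [IsNoetherianRing R]
    [CommRing A] [IsLocalRing A] [IsNoetherianRing A] [IsAdicComplete (maximalIdeal A) A]
    [Algebra R A] [IsLocalHom (algebraMap R A)]
    (hres : Function.Bijective (ResidueField.map (algebraMap R A)))
    [CommRing E] [IsLocalRing E] [Algebra A E] [IsLocalHom (algebraMap A E)]
    (hE : EGA4loc.IsEssentiallyEtale A E) :
    ∃ (S : Type u) (_ : CommRing S) (_ : IsLocalRing S) (_ : Algebra R S),
      Module.Finite R S ∧ Algebra.Etale R S ∧ Nonempty (E ≃ₐ[A] A ⊗[R] S) := by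
  classical
  have hIA : HenselianRing A (maximalIdeal A) := inferInstance
  have hIR : HenselianRing R (maximalIdeal R) := inferInstance
  haveI : HenselianLocalRing A :=
    { is_henselian := fun f hf a₀ h₁ h₂ => hIA.is_henselian f hf a₀ h₁ (h₂.map _) }
  obtain ⟨C, _, _, q, hq, hCet, hqcomap, ⟨eE⟩⟩ := hE
  haveI : q.LiesOver (maximalIdeal A) := ⟨hqcomap.symm⟩
  have hfinL : Module.Finite A (Localization.AtPrime q) :=
    Groth.Agent.H78.HensQF.finite_atPrime_of_henselian A C q
  haveI : Module.Finite A E := Module.Finite.equiv eE.symm.toLinearEquiv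
  haveI : Algebra.FormallyEtale C (Localization.AtPrime q) :=
    Algebra.FormallyEtale.of_isLocalization q.primeCompl
  haveI : Algebra.FormallyEtale A (Localization.AtPrime q) :=
    Algebra.FormallyEtale.comp A C _
  haveI : Algebra.FormallyEtale A E := Algebra.FormallyEtale.of_equiv eE.symm
  haveI : Algebra.FinitePresentation A E := Algebra.FinitePresentation.of_finiteType.mp inferInstance
  haveI : Algebra.Etale A E := { }
  letI : Algebra R E := ((algebraMap A E).comp (algebraMap R A)).toAlgebra
  haveI : IsScalarTower R A E := IsScalarTower.of_algebraMap_eq' rfl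
  -- (a), (b)
  have ha : (maximalIdeal R).map (algebraMap R A) ≤ maximalIdeal A :=
    ((IsLocalRing.local_hom_TFAE (algebraMap R A)).out 0 2).mp (inferInstance : IsLocalHom (algebraMap R A))
  have ha' : maximalIdeal R ≤ (maximalIdeal A).comap (algebraMap R A) :=
    Ideal.map_le_iff_le_comap.mp ha
  have hb : ∀ a : A, ∃ r : R, a - algebraMap R A r ∈ maximalIdeal A := by
    intro a
    obtain ⟨x, hx⟩ := hres.2 (residue A a)
    obtain ⟨r, rfl⟩ := residue_surjective x
    refine ⟨r, ?_⟩
    rw [ResidueField.map_residue] at hx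
    rw [← Ideal.Quotient.eq]
    exact hx.symm
  -- the closed fibre
  have hJle : (maximalIdeal A).map (algebraMap A E) ≤ maximalIdeal E :=
    ((IsLocalRing.local_hom_TFAE (algebraMap A E)).out 0 2).mp (inferInstance : IsLocalHom (algebraMap A E))
  have hJne : (maximalIdeal A).map (algebraMap A E) ≠ ⊤ := by
    intro h
    rw [h] at hJle
    exact (Ideal.IsMaximal.ne_top inferInstance) (top_le_iff.mp hJle)
  haveI : Nontrivial (E ⧸ (maximalIdeal A).map (algebraMap A E)) :=
    Ideal.Quotient.nontrivial_iff.mpr hJne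
  haveI : IsLocalRing (E ⧸ (maximalIdeal A).map (algebraMap A E)) :=
    IsLocalRing.of_surjective' (Ideal.Quotient.mk _) Ideal.Quotient.mk_surjective
  -- algebra structure over `R ⧸ 𝔪_R`
  have hkill : ∀ r ∈ maximalIdeal R,
      algebraMap R (E ⧸ (maximalIdeal A).map (algebraMap A E)) r = 0 := by
    intro r hr
    change Ideal.Quotient.mk _ (algebraMap A E (algebraMap R A r)) = 0
    rw [Ideal.Quotient.eq_zero_iff_mem]
    exact Ideal.mem_map_of_mem _ (ha' hr)
  letI algk : Algebra (R ⧸ maximalIdeal R) (E ⧸ (maximalIdeal A).map (algebraMap A E)) :=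
    (Ideal.Quotient.lift (maximalIdeal R)
      (algebraMap R (E ⧸ (maximalIdeal A).map (algebraMap A E))) hkill).toAlgebra
  haveI : IsScalarTower R (R ⧸ maximalIdeal R) (E ⧸ (maximalIdeal A).map (algebraMap A E)) :=
    IsScalarTower.of_algebraMap_eq' rfl
  letI algkk : Algebra (R ⧸ maximalIdeal R) (A ⧸ maximalIdeal A) :=
    (Ideal.quotientMap (maximalIdeal A) (algebraMap R A) ha').toAlgebra
  haveI : IsScalarTower (R ⧸ maximalIdeal R) (A ⧸ maximalIdeal A)
      (E ⧸ (maximalIdeal A).map (algebraMap A E)) := IsScalarTower.of_algebraMap_eq' (by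
    ext x
    rfl)
  have hbij : Function.Bijective (algebraMap (R ⧸ maximalIdeal R) (A ⧸ maximalIdeal A)) := by
    have : (algebraMap (R ⧸ maximalIdeal R) (A ⧸ maximalIdeal A) : _ → _) =
        ResidueField.map (algebraMap R A) := by
      ext x
      obtain ⟨r, rfl⟩ := Ideal.Quotient.mk_surjective x
      rfl
    rw [this]
    exact hres
  haveI : Algebra.Etale (R ⧸ maximalIdeal R) (A ⧸ maximalIdeal A) :=
    Algebra.Etale.of_equiv (AlgEquiv.ofBijective (Algebra.ofId _ _) hbij)
  haveI : Module.Finite (R ⧸ maximalIdeal R) (A ⧸ maximalIdeal A) :=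
    Module.Finite.of_surjective (Algebra.linearMap _ _) hbij.2
  haveI : Algebra.Etale (A ⧸ maximalIdeal A) (E ⧸ (maximalIdeal A).map (algebraMap A E)) :=
    Algebra.Etale.of_equiv
      (Algebra.TensorProduct.quotIdealMapEquivQuotTensor E (maximalIdeal A)).symm
  haveI : Module.Finite (A ⧸ maximalIdeal A) (E ⧸ (maximalIdeal A).map (algebraMap A E)) :=
    Module.Finite.of_restrictScalars_finite A _ _
  haveI : Algebra.Etale (R ⧸ maximalIdeal R) (E ⧸ (maximalIdeal A).map (algebraMap A E)) :=
    Algebra.Etale.comp _ (A ⧸ maximalIdeal A) _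
  haveI : Module.Finite (R ⧸ maximalIdeal R) (E ⧸ (maximalIdeal A).map (algebraMap A E)) :=
    Module.Finite.trans (A ⧸ maximalIdeal A) _
  -- the lift
  obtain ⟨S, _, _, hSfin, hSet, ⟨eq⟩⟩ := Groth.Agent.S0532.result R (maximalIdeal R)
    (E ⧸ (maximalIdeal A).map (algebraMap A E))
  let π : S →ₐ[R] E ⧸ (maximalIdeal A).map (algebraMap A E) :=
    (eq.toAlgHom.restrictScalars R).comp Algebra.TensorProduct.includeRight
  have hπs : ∀ s : S, π s = eq (1 ⊗ₜ s) := fun s => rfl
  have hπ : Function.Surjective π := by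
    intro x
    obtain ⟨y, rfl⟩ := eq.surjective x
    obtain ⟨s, rfl⟩ := Algebra.TensorProduct.includeRight_surjective (R := R)
      (S := R ⧸ maximalIdeal R) S Ideal.Quotient.mk_surjective y
    exact ⟨s, rfl⟩
  have hker : ∀ s, π s = 0 → s ∈ (maximalIdeal R).map (algebraMap R S) := by
    intro s hs
    rw [hπs] at hs
    have h1 : (1 : R ⧸ maximalIdeal R) ⊗ₜ[R] s = 0 := by
      apply eq.injective
      rw [hs, map_zero]
    have h2 : Algebra.TensorProduct.quotIdealMapEquivQuotTensor S (maximalIdeal R)
        (Ideal.Quotient.mk _ s) = 0 := by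
      rw [Algebra.TensorProduct.quotIdealMapEquivQuotTensor_mk, h1]
    have h3 : Ideal.Quotient.mk ((maximalIdeal R).map (algebraMap R S)) s = 0 := by
      apply (Algebra.TensorProduct.quotIdealMapEquivQuotTensor S (maximalIdeal R)).injective
      rw [h2, map_zero]
    exact Ideal.Quotient.eq_zero_iff_mem.mp h3
  -- `S` is local
  haveI : Algebra.IsIntegral R S := inferInstance
  have hjacS : (maximalIdeal R).map (algebraMap R S) ≤ Ideal.jacobson ⊥ :=
    Groth.Agent.H3.map_le_jacobson_of_isIntegral hIR.jac S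
  haveI : IsLocalRing (S ⧸ (maximalIdeal R).map (algebraMap R S)) :=
    RingEquiv.isLocalRing
      ((Algebra.TensorProduct.quotIdealMapEquivQuotTensor S (maximalIdeal R)).toRingEquiv.trans
        eq.toRingEquiv).symm
  haveI : IsLocalRing S := isLocalRing_of_quotient _ hjacS
  exact ⟨S, inferInstance, inferInstance, inferInstance, hSfin, hSet,
    core (maximalIdeal R) (maximalIdeal A) hIA ha hb S E π hπ hker⟩

end Groth.Agent.H78.EssEtComplete
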